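import Cfsg.Agent.Helper19.TCR.ModelDefs

set_option autoImplicit false
set_option linter.all false
set_option maxRecDepth 1000000
set_option maxHeartbeats 0

namespace Cfsg.Agent.Helper11.SchU43M1

open Cfsg.Agent.Helper19.TCS Cfsg.Agent.Helper19.TCM

noncomputable def colM0 : Tr Nat := (.nd (.nd (.lf (nat_lit 0x17c02900a005c016c027a11c056009405291380230134022012c04a012001f011001e010403f908403c0068038006003500cc03100c0c1c00b402b405c01290580263050024004000e008000d007401b00640098030015001c0130018011003c00b9014003002800800040040008000)) (.lf (nat_lit 0x66c0dc06680db036891604f01400360194a5fc0d6b4dad22064a587033c0ce356818d033018b032c10c06200ca0614126060818103180e803140d473b80c4a3bc17c030455b05e417802f81766598115b4100bb05c817105bc0b705b810f34b40b502cc16a52d950a05a4168059c165)) (.lf (nat_lit 0xb86820d0832e16984e2143864203080920a086c218385560107cc1ee07b4df4082c1eba7e8217079c1e60790e080788212)) (.lf (nat_lit 0x0))) (.nd (.lf (nat_lit 0x2d00b2014c0ae01440ab01400a8029804f028c076028004c01c8c5e012409a02640980118045025006b010c09131edc6c7189442010008b022403e00f4086021408300e8039715405901f803700d807c01e807800d0c5401d003201c407000bc06e01b402e20ec068019802c018c02a))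 (.lf (nat_lit 0x26541c6046e94e868c118647d97aa6b9d1c044c17d04441c1653010d070012904241be041c1bc94d294506e8100b5581b9262814206d650603e80f806cc1b136600f506bc0f403cc1ac05618fc03c41a806641a5b4f80ec35ad910a4ec15704840e606800e5a5280e306700e103f9533)) (.lf (nat_lit 0x0)) (.lf (nat_lit 0x0))) (.nd (.lf (nat_lit 0x45c0840450112020810e72b0081042c08001fc4df834010583a807d040c0b004090dd934407903f40fb01de0c803d807503c80f001cc0ed03ac0e9039c06f039009c22e00e0037806a01a40d9035c067034c06501900cd018406003240c7023405d030c088030005a02f00ba0160057)) (.lf (nat_lit 0x5b01ec567e17707a91de55c016396001e5078c160078015c077c159063a5b4957dd758744154054c1a97630150076ad9d07501480766dc435ec55e0512dc335b5dd2270813a874c13804dc1d604c854d04c2d8604b81d0063c12b07381cd049d1c5072812564f5164048e9a106ec1c8)) (.lf (nat_lit 0x0)) (.lf (nat_lit 0x0))) (.nd (.lf (nat_lit 0x2a80a9058816103fed01029c15d029654634fc0a442b4155028815205468af053c09f230809e052c09d0524147026ccf7050c8b9050552f025ed0804644a102558b104e409304d691d02498bf0355ce20240131023c08e04b012a04a008c049008a43e4120047808752f411a434a896))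 (.lf (nat_lit 0x84520f076e9e9b7f99efa8141ccb810210072c20e17841c9b81e1f5971cdfb06fc20907a05d5a6f420606e01b617e15f6677020007fedd8a6dc1ad57f41aa0699ddd27c819e068a196064c1fc064419086c21aba65d5a707e41f706265cf060d5b205f81f107c05d7269017485ccd84)) (.lf (nat_lit 0x0)) (.lf (nat_lit 0x0))))

end Cfsg.Agent.Helper11.SchU43M1
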