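import Cfsg.Agent.Helper19.TCR.ModelDefs

set_option autoImplicit false
set_option linter.all false
set_option maxRecDepth 1000000
set_option maxHeartbeats 0

namespace Cfsg.Agent.Helper11.SchU43M1

open Cfsg.Agent.Helper19.TCS Cfsg.Agent.Helper19.TCM

noncomputable def colM1 : Tr Nat := (.nd (.nd (.lf (nat_lit 0xa805e0174028a11405901600260150053009004f008c04c00880210124046007c042007804000f803d00e801a00dc01800d003230a401500b802c004e420004802700440258074c1b003a419003001c00280170024016005100f00200050040004003400b301c0020018001000c000)) (.lf (nat_lit 0x93d454f6614139252c19803641960654533035cd6975001930340191738018f94240cd06300cc05b80cb062412406180c9060c53205240c665e40c5235957605f40c2037417a02fe93a04480bd05d40bc05cd94c04280ba05c012802ddd0405b44de05acd6002c851102bc0ad13e8166)) (.lf (nat_lit 0x84461b98542100818618983d216385c20007fc1f687f81f40868219082621207b260217c41e827e45f7085021378381e2)) (.lf (nat_lit 0x0))) (.nd (.lf (nat_lit 0x2d405502c0052919405102a8050029c074029004d0284071012c04a0270048011d46401a009602540440248043024008f0105463023408c00fe470022003c00ec08401580810200038515e44e01f403601ec07901d8c3500cc07200c403001bc02f20e406b01a802d019dc6200ac061))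 (.lf (nat_lit 0x24d41c705d011a967d978045c11646f011456b01c2470410f0439db9043410b966c1bf9534106040c1020405913040218406e00fd03f01b436b6d9e03e01b2b46252d06c0155052856503c81aa06a40f003bc1a603b497cb64997103a4945039c1a20398cf625a019d038c1620384138)) (.lf (nat_lit 0x0)) (.lf (nat_lit 0x0))) (.nd (.lf (nat_lit 0x6350115730c0830440082a38a8990431d05042007f041c07e63680ae23b807c83cd4b901e80ff03f807803e407703dc0f401d40f1b37007303b00ea03a009a039406e01b406c037c8c0036c06903600d501980d1033c0ce02240ca01800c8017c086031005c016c0be01680bb02e00b6)) (.lf (nat_lit 0x7b416c27a416a060416705901e7277c1e60584dae0575dc805711d10564977077815647401dc06a015277381db05429c345ec1d7260814776f41d8169014304fc13d054655b273d1d6a5fc1360754131074c1d206341af04b15a704aa963072c12734c059004965c007241230488db7)) (.lf (nat_lit 0x0)) (.lf (nat_lit 0x0))) (.nd (.lf (nat_lit 0x3ec14102a595402a015f831c15e93900a50568158055c0a3054c0a2246d51d028014e027d0b102781200274148051809b05114d20508098b2d009782b013e04f013b0250137024c134034c11e02460c132ad0b304bc12e023812b04a4126022d0a60228121047c11c021e8eb0464085)) (.lf (nat_lit 0x7845fb77741d497b8a070736de50731de447c260a08369d907181c567e820c082c1be08201bb27f01eb081420406d820306d4201b7cc1b306c61ba57699e307f41a506845e0b710194b7a81a3465d59a46ac18e372818b06281f807d418707c818037bc17e86205a0167299905c816f))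 (.lf (nat_lit 0x0)) (.lf (nat_lit 0x0))))

end Cfsg.Agent.Helper11.SchU43M1
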