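import Cfsg.Agent.Helper19.TCR.ModelDefs

set_option autoImplicit false
set_option linter.all false
set_option maxRecDepth 1000000
set_option maxHeartbeats 0

namespace Cfsg.Agent.Helper11.SchU43M1

open Cfsg.Agent.Helper19.TCS Cfsg.Agent.Helper19.TCM

noncomputable def colM2 : Tr Nat := (.nd (.nd (.lf (nat_lit 0x182c2ba0f6432809c05a809805701560240144050013ac3ca0c64258080047011404390fa01d807201b00ec039b0c0036805e016805402f805201300a802900a20114066010008c022008401f007a00b0068018403e008b02a006004a40d801000e800c00c8008009001c0058000001)) (.lf (nat_lit 0x837ad94836c199145e0d9065e0d825220d744d5d2b834e0d1939e0cf262c190833418e14d1988b60418a8328187832418483220c735e8180437c17f831017e830ecd505ee0c074ee0be05de57382f017482ed11082e8d4382e0d4b353a0b682d416c43960b2654e0b093c24ce82ae0aa)) (.lf (nat_lit 0x6848217384620b886a204880de099840a1b5866e1387d5a0c67fca0e08621ec1851df087aa601481421608561e3b81a9ed)) (.lf (nat_lit 0x0))) (.nd (.lf (nat_lit 0x81580b302c40af02b40acb1480a9813c0a581340a2813009f027a870027409bb17a046025d4538110093b22d45b810a0411152040023a03f022a46d812c087319a03a020944a80e007f80ddc6331aa47980d603401de03301d40730174c58b12244980b806c80b406980b00650190062))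 (.lf (nat_lit 0x847a11c96a1d42846552115041c584541c4070e112b45256d85ad967064edb1b5ca10805c41bda5681bb25c2d52561a0ff83f81b706da0fbb3f5da696ca0f783da96983d01ae06b60f206ae0f12416566069e0ed069150b83ae0ea54320e8068d937068419f839019e543857c75e60e0)) (.lf (nat_lit 0x0)) (.lf (nat_lit 0x0))) (.nd (.lf (nat_lit 0x8210116820c113044410f820410d820010a04250e981f810681f410481f2cec81ee07a040410081e00fc03e80f881d80f503ce07403bc0ee81ca07181bc0e681b80e303880e181ac0dd03700da81a00d603500d2034206103300cb919e05f03180c581700c203040bf02f605902e40b7)) (.lf (nat_lit 0x2741db085a81eb85a01e907a2de5858a16107901e20786d5d95b85beb70a158855c1dd85549981672d7d854455e271e14f85251ce851e9a0851a144a675da996581d784f19aa84e6d9b464a53e85bd195075212e074612c073cd8564be128073092a8498d655632124b7205c694a6120)) (.lf (nat_lit 0x0)) (.lf (nat_lit 0x0))) (.nd (.lf (nat_lit 0x590163957e0a805820a7a3e60a6057015b8290159828c1560552d0382860a005424ae053414c42d014ab4c609c441c145826a0998260140447c13f825a09504f609404e813804da092946a09104ce09004ca08f04c2d0204b608d82301270494123048a089822011d046e0868214118))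 (.lf (nat_lit 0x28361dc47799d5874e1d2b782dcd479a1cb083e1ca8724de7776c60887061c0a80020a86f020786ea1b957c91f796e21b5080a1b486ce5f9477d1fd86b01fe17c45d69762dd98669dda27f219107ec1fa863d9bf86351a297e218907d81f407ce5836695d8285e217685d65af07bc1ee)) (.lf (nat_lit 0x0)) (.lf (nat_lit 0x0))))

end Cfsg.Agent.Helper11.SchU43M1
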