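import Cfsg.Agent.Helper19.TCR.ModelDefs

set_option autoImplicit false
set_option linter.all false
set_option maxRecDepth 1000000
set_option maxHeartbeats 0

namespace Cfsg.Agent.Helper11.SchU43M1

open Cfsg.Agent.Helper19.TCS Cfsg.Agent.Helper19.TCM

noncomputable def colM3 : Tr Nat := (.nd (.nd (.lf (nat_lit 0x4180c2b20f4432009d05a0099057415402441450504138c3c20c44250081047411504310f801d007001b40ed03930c1036005c016005502f005001340a902940a00118064010408d022408501f407800b4069018803c0083028006404840d001100e000d00c0009009401d0050001001)) (.lf (nat_lit 0x378d94036d199545c0d9465c0d865200d784d6d2b034c0d1139c0cf662d190033518e54d2988360518a0329187032518403200c775e9180837d17f031117e030ccd545ec0c0b4ec0be45dc57302f117402ee11002e9d4302e1d4b75380b602d516c83940b2a54c0b013c04ce02ac0aa)) (.lf (nat_lit 0xa849217784420b0868204080ee091841a1b9864e1307d6a0ca7fda0e48601ec5852df007a8601881521648541e338189ed)) (.lf (nat_lit 0x0))) (.nd (.lf (nat_lit 0x1590b342c50af42b50ac31490a9013d0a501350a2013109f4278870427509b3178046425e4530111093322e45b01080415150040423803f422846d012d087719803a420a44a00e107f00dec6371a847900d403441dc03341d50734175c58312044900b906c00b506900b10654191062))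 (.lf (nat_lit 0x47811c16a2d42046652155051c504551c4470c112345056d05ae967464cdb135c810845c51bd25691bb65c0d5296180ff03f91b746d80fb33f6da616c80f703d896903d11ae46b40f246ac0f16414566469c0ed469250b03ac0ea94300e8468e937468519f039119e943957cb5e40e0)) (.lf (nat_lit 0x0)) (.lf (nat_lit 0x0))) (.nd (.lf (nat_lit 0x211116020d113444510f020510d020110a44260e901f910601f510401f0cec01ec07a440510001e10fc43e90f801d90f543cc07443bd0ee01c807101bd0e601b90e343890e101ad0dd43710da01a10d643510d2434006143310cb119c05f43190c501710c243050bf42f405942e50b7)) (.lf (nat_lit 0x6742db005a91eb05a11e947a0de5058816147911e24784d5d15b95be3708158055d1dd05559985670d7d054555e671c14f05261ce051c9a005181442676da916591d704f29aa04e4d9b864853e05be195475012e474412c473dd85a4bc128473192a0499d65963012437215c614a4120)) (.lf (nat_lit 0x0)) (.lf (nat_lit 0x0))) (.nd (.lf (nat_lit 0x4591163157c0a845800a723e40a6457115b0291159028d1564550d0302840a045404ae453514c82d114a34c409c841d14502680990261140847d13f025809544f409444e913844d8092146809144cc09044c808f44c0d0244b408d023112744951234488089022111d446c0860215118)) (.lf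 (nat_lit 0x68341dc877a9d5074c1d23780dcd87981cb483c1ca0725de7b76d60807041c0280120a06f120706e81b997ca1f716e01b548081b406cc5f9877e1fd06b11fe57c55d61760dd9066adda67f019147ed1fa063e9bf06361a217e018947d91f447cc583a696d8205e017605d45af47bd1ee)) (.lf (nat_lit 0x0)) (.lf (nat_lit 0x0))))

end Cfsg.Agent.Helper11.SchU43M1
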